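import Mathlib
import Groth.Agent.Lib.Helper5.StalkTen.TotFun

/-!
# Maps of total complexes induced by a natural transformation of bifunctors (helper5)

Given bifunctors `TA : A₁ ⥤ A₂ ⥤ A`, `TB : B₁ ⥤ B₂ ⥤ B`, additive functors `G₁`, `G₂`, `G` and a
natural transformation `ψ : TB (G₁ P) (G₂ N) ⟶ G (TA P N)`, we construct the induced morphism
`Tot (TB (G₁ F) (G₂ K)) ⟶ G (Tot (TA F K))` (no assumption that `G` preserves coproducts).
-/
set_option autoImplicit false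
set_option linter.unusedSectionVars false
set_option linter.unusedVariables false
set_option linter.style.haveILetI false
universe v₁ u₁ v₂ u₂ v₃ u₃ v₄ u₄ v₅ u₅ v₆ u₆
open CategoryTheory CategoryTheory.Limits HomologicalComplex

namespace Groth.Agent.Lib.Helper5.TotMap

open Groth.Agent.Lib.Helper5.TotFun

variable {A₁ : Type u₁} [Category.{v₁} A₁] [Preadditive A₁]
  {A₂ : Type u₂} [Category.{v₂} A₂] [Preadditive A₂]
  {A : Type u₃} [Category.{v₃} A] [Preadditive A]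
  {B₁ : Type u₄} [Category.{v₄} B₁] [Preadditive B₁]
  {B₂ : Type u₅} [Category.{v₅} B₂] [Preadditive B₂]
  {B : Type u₆} [Category.{v₆} B] [Preadditive B]
  (TA : A₁ ⥤ A₂ ⥤ A) [TA.PreservesZeroMorphisms] [∀ X, (TA.obj X).PreservesZeroMorphisms]
  (TB : B₁ ⥤ B₂ ⥤ B) [TB.PreservesZeroMorphisms] [∀ X, (TB.obj X).PreservesZeroMorphisms]
  (G₁ : A₁ ⥤ B₁) [G₁.Additive] (G₂ : A₂ ⥤ B₂) [G₂.Additive] (G : A ⥤ B) [G.Additive]
  (ψ : ∀ (P : A₁) (N : A₂), (TB.obj (G₁.obj P)).obj (G₂.obj N) ⟶ G.obj ((TA.obj P).obj N))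
  (hψ₁ : ∀ {P P' : A₁} (f : P ⟶ P') (N : A₂),
    (TB.map (G₁.map f)).app (G₂.obj N) ≫ ψ P' N = ψ P N ≫ G.map ((TA.map f).app N))
  (hψ₂ : ∀ (P : A₁) {N N' : A₂} (g : N ⟶ N'),
    (TB.obj (G₁.obj P)).map (G₂.map g) ≫ ψ P N' = ψ P N ≫ G.map ((TA.obj P).map g))
  (F : CochainComplex A₁ ℤ) (K : CochainComplex A₂ ℤ)
  [HasMapBifunctor F K TA (ComplexShape.up ℤ)]
  [HasMapBifunctor ((G₁.mapHomologicalComplex _).obj F) ((G₂.mapHomologicalComplex _).obj K) TB
    (ComplexShape.up ℤ)]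

/-- the degreewise map -/
noncomputable def eMap (n : ℤ) : (totB TB G₁ G₂ F K).X n ⟶ G.obj ((totA TA F K).X n) :=
  mapBifunctorDesc (fun p q h => ψ (F.X p) (K.X q) ≫ G.map (ιA TA F K p q n h))

lemma ι_eMap (p q n : ℤ) (h : p + q = n) :
    ιB TB G₁ G₂ F K p q n h ≫ eMap TA TB G₁ G₂ G ψ F K n =
      ψ (F.X p) (K.X q) ≫ G.map (ιA TA F K p q n h) := by
  unfold eMap ιB
  exact ι_mapBifunctorDesc _ _ _ _

lemma comp_helper {C : Type*} [Category C] {a b c d : C} (i : a ⟶ b) (e : b ⟶ c) (g : c ⟶ d)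
    (x : a ⟶ c) (h : i ≫ e = x) : i ≫ (e ≫ g) = x ≫ g := by
  rw [← Category.assoc, h]

include hψ₁ hψ₂ in
lemma eMap_comm (n : ℤ) :
    eMap TA TB G₁ G₂ G ψ F K n ≫ G.map ((totA TA F K).d n (n + 1)) =
      (totB TB G₁ G₂ F K).d n (n + 1) ≫ eMap TA TB G₁ G₂ G ψ F K (n + 1) := by
  apply mapBifunctor.hom_ext
  intro p q hpq
  have h1 : p + 1 + q = n + 1 := by have : p + q = n := hpq; omega
  have h2 : p + (q + 1) = n + 1 := by have : p + q = n := hpq; omega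
  have e1 := ι_eMap TA TB G₁ G₂ G ψ F K p q n hpq
  have e2 := ιB_d TB G₁ G₂ F K p q n hpq h1 h2
  have e3 := ιA_d TA F K p q n hpq h1 h2
  have e4 := ι_eMap TA TB G₁ G₂ G ψ F K (p + 1) q (n + 1) h1
  have e5 := ι_eMap TA TB G₁ G₂ G ψ F K p (q + 1) (n + 1) h2
  have L : ιB TB G₁ G₂ F K p q n hpq ≫
      (eMap TA TB G₁ G₂ G ψ F K n ≫ G.map ((totA TA F K).d n (n + 1))) =
      ComplexShape.ε₁ (ComplexShape.up ℤ) (ComplexShape.up ℤ) (ComplexShape.up ℤ) (p, q) •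
        (ψ (F.X p) (K.X q) ≫ G.map ((TA.map (F.d p (p + 1))).app (K.X q)) ≫
          G.map (ιA TA F K (p + 1) q (n + 1) h1)) +
      ComplexShape.ε₂ (ComplexShape.up ℤ) (ComplexShape.up ℤ) (ComplexShape.up ℤ) (p, q) •
        (ψ (F.X p) (K.X q) ≫ G.map ((TA.obj (F.X p)).map (K.d q (q + 1))) ≫
          G.map (ιA TA F K p (q + 1) (n + 1) h2)) := by
    refine (comp_helper _ _ _ _ e1).trans ?_
    rw [Category.assoc, ← G.map_comp, e3, G.map_add, Functor.map_units_smul,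
      Functor.map_units_smul, G.map_comp, G.map_comp, Preadditive.comp_add,
      Linear.comp_units_smul, Linear.comp_units_smul]
  have R : ιB TB G₁ G₂ F K p q n hpq ≫
      ((totB TB G₁ G₂ F K).d n (n + 1) ≫ eMap TA TB G₁ G₂ G ψ F K (n + 1)) =
      ComplexShape.ε₁ (ComplexShape.up ℤ) (ComplexShape.up ℤ) (ComplexShape.up ℤ) (p, q) •
        (ψ (F.X p) (K.X q) ≫ G.map ((TA.map (F.d p (p + 1))).app (K.X q)) ≫
          G.map (ιA TA F K (p + 1) q (n + 1) h1)) +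
      ComplexShape.ε₂ (ComplexShape.up ℤ) (ComplexShape.up ℤ) (ComplexShape.up ℤ) (p, q) •
        (ψ (F.X p) (K.X q) ≫ G.map ((TA.obj (F.X p)).map (K.d q (q + 1))) ≫
          G.map (ιA TA F K p (q + 1) (n + 1) h2)) := by
    refine (comp_helper _ _ _ _ e2).trans ?_
    rw [Preadditive.add_comp, Linear.units_smul_comp, Linear.units_smul_comp, Category.assoc,
      Category.assoc, e4, e5, ← Category.assoc, hψ₁, ← Category.assoc ((TB.obj _).map _), hψ₂,
      Category.assoc, Category.assoc]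
  exact L.trans R.symm

include hψ₁ hψ₂ in
/-- the morphism of total complexes `Tot (TB (G₁ F) (G₂ K)) ⟶ G (Tot (TA F K))` -/
noncomputable def totMap :
    totB TB G₁ G₂ F K ⟶ (G.mapHomologicalComplex (ComplexShape.up ℤ)).obj (totA TA F K) where
  f n := eMap TA TB G₁ G₂ G ψ F K n
  comm' i j hij := by
    have hj : j = i + 1 := by
      simp only [ComplexShape.up_Rel] at hij
      omega
    subst hj
    exact eMap_comm TA TB G₁ G₂ G ψ hψ₁ hψ₂ F K i

end Groth.Agent.Lib.Helper5.TotMap
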