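import Mathlib
import Groth.Agent.Lib.Helper5.ProjF2.TotMap

/-!
# Naturality of `TotMap.totMap` in the second variable (helper5)
-/
set_option autoImplicit false
set_option linter.unusedSectionVars false
set_option linter.unusedVariables false
set_option linter.style.haveILetI false
universe v₁ u₁ v₂ u₂ v₃ u₃ v₄ u₄ v₅ u₅ v₆ u₆
open CategoryTheory CategoryTheory.Limits HomologicalComplex

namespace Groth.Agent.Lib.Helper5.TotMap

open Groth.Agent.Lib.Helper5.TotFun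

variable {A₁ : Type u₁} [Category.{v₁} A₁] [Preadditive A₁]
  {A₂ : Type u₂} [Category.{v₂} A₂] [Preadditive A₂]
  {A : Type u₃} [Category.{v₃} A] [Preadditive A]
  {B₁ : Type u₄} [Category.{v₄} B₁] [Preadditive B₁]
  {B₂ : Type u₅} [Category.{v₅} B₂] [Preadditive B₂]
  {B : Type u₆} [Category.{v₆} B] [Preadditive B]
  (TA : A₁ ⥤ A₂ ⥤ A) [TA.PreservesZeroMorphisms] [∀ X, (TA.obj X).PreservesZeroMorphisms]
  (TB : B₁ ⥤ B₂ ⥤ B) [TB.PreservesZeroMorphisms] [∀ X, (TB.obj X).PreservesZeroMorphisms]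
  (G₁ : A₁ ⥤ B₁) [G₁.Additive] (G₂ : A₂ ⥤ B₂) [G₂.Additive] (G : A ⥤ B) [G.Additive]
  (ψ : ∀ (P : A₁) (N : A₂), (TB.obj (G₁.obj P)).obj (G₂.obj N) ⟶ G.obj ((TA.obj P).obj N))
  (hψ₁ : ∀ {P P' : A₁} (f : P ⟶ P') (N : A₂),
    (TB.map (G₁.map f)).app (G₂.obj N) ≫ ψ P' N = ψ P N ≫ G.map ((TA.map f).app N))
  (hψ₂ : ∀ (P : A₁) {N N' : A₂} (g : N ⟶ N'),
    (TB.obj (G₁.obj P)).map (G₂.map g) ≫ ψ P N' = ψ P N ≫ G.map ((TA.obj P).map g))
  (F : CochainComplex A₁ ℤ) {K K' : CochainComplex A₂ ℤ} (b : K ⟶ K')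
  [HasMapBifunctor F K TA (ComplexShape.up ℤ)] [HasMapBifunctor F K' TA (ComplexShape.up ℤ)]
  [HasMapBifunctor ((G₁.mapHomologicalComplex _).obj F) ((G₂.mapHomologicalComplex _).obj K) TB
    (ComplexShape.up ℤ)]
  [HasMapBifunctor ((G₁.mapHomologicalComplex _).obj F) ((G₂.mapHomologicalComplex _).obj K') TB
    (ComplexShape.up ℤ)]

lemma ιA_map₂ (p q n : ℤ) (h : p + q = n) :
    ιA TA F K p q n h ≫ (mapBifunctorMap (𝟙 F) b TA (ComplexShape.up ℤ)).f n =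
      (TA.obj (F.X p)).map (b.f q) ≫ ιA TA F K' p q n h := by
  unfold ιA
  rw [ι_mapBifunctorMap]
  simp

lemma ιB_map₂ (p q n : ℤ) (h : p + q = n) :
    ιB TB G₁ G₂ F K p q n h ≫
        (mapBifunctorMap (𝟙 ((G₁.mapHomologicalComplex (ComplexShape.up ℤ)).obj F))
          ((G₂.mapHomologicalComplex (ComplexShape.up ℤ)).map b) TB (ComplexShape.up ℤ)).f n =
      (TB.obj (G₁.obj (F.X p))).map (G₂.map (b.f q)) ≫ ιB TB G₁ G₂ F K' p q n h := by
  have h1 := ι_mapBifunctorMap (𝟙 ((G₁.mapHomologicalComplex (ComplexShape.up ℤ)).obj F))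
    ((G₂.mapHomologicalComplex (ComplexShape.up ℤ)).map b) TB (ComplexShape.up ℤ) p q n h
  refine h1.trans ?_
  simp
  rfl

include hψ₁ hψ₂ in
/-- **naturality of `totMap` in the second variable** -/
theorem totMap_naturality₂ :
    mapBifunctorMap (𝟙 ((G₁.mapHomologicalComplex (ComplexShape.up ℤ)).obj F))
        ((G₂.mapHomologicalComplex (ComplexShape.up ℤ)).map b) TB (ComplexShape.up ℤ) ≫
      totMap TA TB G₁ G₂ G ψ hψ₁ hψ₂ F K' =
    totMap TA TB G₁ G₂ G ψ hψ₁ hψ₂ F K ≫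
      (G.mapHomologicalComplex (ComplexShape.up ℤ)).map
        (mapBifunctorMap (𝟙 F) b TA (ComplexShape.up ℤ)) := by
  apply HomologicalComplex.hom_ext
  intro n
  apply mapBifunctor.hom_ext
  intro p q hpq
  have e1 := ιB_map₂ TB G₁ G₂ F b p q n hpq
  have e2 := ι_eMap TA TB G₁ G₂ G ψ F K' p q n hpq
  have e3 := ι_eMap TA TB G₁ G₂ G ψ F K p q n hpq
  have e4 := ιA_map₂ TA F b p q n hpq
  have L : ιB TB G₁ G₂ F K p q n hpq ≫
      ((mapBifunctorMap (𝟙 ((G₁.mapHomologicalComplex (ComplexShape.up ℤ)).obj F))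
        ((G₂.mapHomologicalComplex (ComplexShape.up ℤ)).map b) TB (ComplexShape.up ℤ)).f n ≫
        eMap TA TB G₁ G₂ G ψ F K' n) =
      ψ (F.X p) (K.X q) ≫ G.map ((TA.obj (F.X p)).map (b.f q)) ≫
        G.map (ιA TA F K' p q n hpq) := by
    refine (comp_helper _ _ _ _ e1).trans ?_
    rw [Category.assoc, e2, ← Category.assoc, hψ₂, Category.assoc]
  have R : ιB TB G₁ G₂ F K p q n hpq ≫
      (eMap TA TB G₁ G₂ G ψ F K n ≫
        G.map ((mapBifunctorMap (𝟙 F) b TA (ComplexShape.up ℤ)).f n)) =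
      ψ (F.X p) (K.X q) ≫ G.map ((TA.obj (F.X p)).map (b.f q)) ≫
        G.map (ιA TA F K' p q n hpq) := by
    refine (comp_helper _ _ _ _ e3).trans ?_
    rw [Category.assoc, ← G.map_comp, e4, G.map_comp]
  exact L.trans R.symm

end Groth.Agent.Lib.Helper5.TotMap
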