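import Mathlib
import Groth.Agent.Lib.Helper5.ProjF2.TotMapNat
import Groth.Agent.Lib.Helper5.ProjF.PiCx
import Groth.Agent.Lib.Helper5.Stalk.LpullAdj

/-!
# The projection formula map `Rf_* E ⊗ F ⟶ Rf_* (E ⊗ f^* F)` on complexes and in the derived
category (helper5)
-/
set_option autoImplicit false
set_option linter.unusedSectionVars false
set_option linter.unusedVariables false
set_option linter.style.haveILetI false
universe u
open CategoryTheory CategoryTheory.Limits HomologicalComplex AlgebraicGeometry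
attribute [local instance] HasDerivedCategory.standard

namespace Groth.Agent.Lib.Helper5.ProjF2

open Groth.Agent.Lib.Helper5.ProjF Groth.Agent.Lib.Helper5.TotMap
  Groth.Agent.Lib.Helper5.LpullLib

variable {X Y : Scheme.{u}} (f : X ⟶ Y)

/-- `f_*` on complexes -/
noncomputable abbrev pushCx : CochainComplex X.Modules ℤ ⥤ CochainComplex Y.Modules ℤ :=
  (Scheme.Modules.pushforward f).mapHomologicalComplex (ComplexShape.up ℤ)

/-- `f^*` on complexes -/
noncomputable abbrev pullCx : CochainComplex Y.Modules ℤ ⥤ CochainComplex X.Modules ℤ :=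
  (Scheme.Modules.pullback f).mapHomologicalComplex (ComplexShape.up ℤ)

variable (I : CochainComplex X.Modules ℤ)

/-- `F ↦ f_* I ⊗ F` -/
noncomputable abbrev LF : CochainComplex Y.Modules ℤ ⥤ CochainComplex Y.Modules ℤ :=
  DCoh.tensorCx.obj ((pushCx f).obj I)

/-- `F ↦ I ⊗ f^* F` -/
noncomputable abbrev KF : CochainComplex Y.Modules ℤ ⥤ CochainComplex X.Modules ℤ :=
  pullCx f ⋙ DCoh.tensorCx.obj I

/-- the projection formula map on complexes `f_* I ⊗ F ⟶ f_* (I ⊗ f^* F)` -/
noncomputable def piCx (F : CochainComplex Y.Modules ℤ) :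
    (LF f I).obj F ⟶ (pushCx f).obj ((KF f I).obj F) :=
  totMap (TAf f) DCoh.tensorBi (Scheme.Modules.pushforward f) (𝟭 Y.Modules)
    (Scheme.Modules.pushforward f) (piMap f)
    (fun g A => piMap_naturality_left f g A) (fun M _ _ h => piMap_naturality_right f M h) I F

lemma piCx_naturality {F F' : CochainComplex Y.Modules ℤ} (a : F ⟶ F') :
    (LF f I).map a ≫ piCx f I F' = piCx f I F ≫ (pushCx f).map ((KF f I).map a) :=
  totMap_naturality₂ (TAf f) DCoh.tensorBi (Scheme.Modules.pushforward f) (𝟭 Y.Modules)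
    (Scheme.Modules.pushforward f) (piMap f)
    (fun g A => piMap_naturality_left f g A) (fun M _ _ h => piMap_naturality_right f M h) I a

variable [DCoh.HasRpush f]

/-- the unit `Q (f_* K) ⟶ Rf_* (Q K)` at a complex -/
noncomputable def uCx (K : CochainComplex X.Modules ℤ) :
    DerivedCategory.Q.obj ((pushCx f).obj K) ⟶ (DCoh.Rpush f).obj (DerivedCategory.Q.obj K) :=
  haveI := hasLpull f
  (rpushUnit f).app ((HomotopyCategory.quotient X.Modules (ComplexShape.up ℤ)).obj K)

lemma uCx_naturality {K K' : CochainComplex X.Modules ℤ} (b : K ⟶ K') :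
    DerivedCategory.Q.map ((pushCx f).map b) ≫ uCx f K' =
      uCx f K ≫ (DCoh.Rpush f).map (DerivedCategory.Q.map b) := by
  haveI := hasLpull f
  exact (rpushUnit f).naturality ((HomotopyCategory.quotient X.Modules (ComplexShape.up ℤ)).map b)

/-- `ρ_F : Q (f_* I ⊗ F) ⟶ Rf_* (Q (I ⊗ f^* F))` -/
noncomputable def rho (F : CochainComplex Y.Modules ℤ) :
    DerivedCategory.Q.obj ((LF f I).obj F) ⟶
      (DCoh.Rpush f).obj (DerivedCategory.Q.obj ((KF f I).obj F)) :=
  DerivedCategory.Q.map (piCx f I F) ≫ uCx f ((KF f I).obj F)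

lemma rho_naturality {F F' : CochainComplex Y.Modules ℤ} (a : F ⟶ F') :
    DerivedCategory.Q.map ((LF f I).map a) ≫ rho f I F' =
      rho f I F ≫ (DCoh.Rpush f).map (DerivedCategory.Q.map ((KF f I).map a)) := by
  unfold rho
  rw [← Category.assoc, ← DerivedCategory.Q.map_comp, piCx_naturality, DerivedCategory.Q.map_comp,
    Category.assoc, uCx_naturality, Category.assoc]

end Groth.Agent.Lib.Helper5.ProjF2
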