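import Mathlib
import Groth.Agent.Lib.Helper5.ProjF2.TotIsoNat2
import Groth.Agent.Lib.Helper5.RestrTen.RestrTenS

/-!
# Naturality of `restrictTotIso` in the second variable (helper5)
-/
set_option autoImplicit false
set_option linter.unusedSectionVars false
set_option linter.unusedVariables false
set_option linter.style.haveILetI false
universe u
open CategoryTheory CategoryTheory.Limits HomologicalComplex AlgebraicGeometry

namespace Groth.Agent.Lib.Helper5.ProjF2

open Groth.Agent.Lib.Helper5.RestrTen Groth.Agent.Lib.Helper5.TotMap

variable {X U : Scheme.{u}} (j : U ⟶ X) [IsOpenImmersion j]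

/-- restriction on complexes -/
noncomputable abbrev resCxF : CochainComplex X.Modules ℤ ⥤ CochainComplex U.Modules ℤ :=
  (Scheme.Modules.restrictFunctor j).mapHomologicalComplex (ComplexShape.up ℤ)

theorem restrictTotIso_naturality₂ (F : CochainComplex X.Modules ℤ)
    {K K' : CochainComplex X.Modules ℤ} (b : K ⟶ K') :
    (resCxF j).map ((DCoh.tensorCx.obj F).map b) ≫ (restrictTotIso j F K').hom =
      (restrictTotIso j F K).hom ≫
        (DCoh.tensorCx.obj ((resCxF j).obj F)).map ((resCxF j).map b) :=
  totIso_naturality₂ DCoh.tensorBi DCoh.tensorBi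
    (Scheme.Modules.restrictFunctor j) (Scheme.Modules.restrictFunctor j)
    (Scheme.Modules.restrictFunctor j)
    (fun P N => restrictTensorIso j P N)
    (fun f N => restrictTensorIso_naturality_left j f N)
    (fun P _ _ g => restrictTensorIso_naturality_right j P g) F b

/-- if `b` restricts to an isomorphism, so does `F ⊗ b` -/
theorem isIso_restrict_tensor_map (F : CochainComplex X.Modules ℤ)
    {K K' : CochainComplex X.Modules ℤ} (b : K ⟶ K') (hb : IsIso ((resCxF j).map b)) :
    IsIso ((resCxF j).map ((DCoh.tensorCx.obj F).map b)) := by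
  have h := restrictTotIso_naturality₂ j F b
  have : (resCxF j).map ((DCoh.tensorCx.obj F).map b) =
      (restrictTotIso j F K).hom ≫
        (DCoh.tensorCx.obj ((resCxF j).obj F)).map ((resCxF j).map b) ≫
          (restrictTotIso j F K').inv := by
    rw [← Category.assoc, ← h, Category.assoc, Iso.hom_inv_id, Category.comp_id]
  rw [this]
  infer_instance

end Groth.Agent.Lib.Helper5.ProjF2
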