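import Mathlib
import Groth.Prelude.Def_DCoh3
import Groth.Agent.Lib.Helper5.Stalk.RpushSupp
import Groth.Agent.Lib.Helper5.Perf.LocalCoh

/-!
# Being an isomorphism in `D(O_Y)` is local on `Y` (helper5)
-/
set_option autoImplicit false
set_option linter.unusedSectionVars false
set_option linter.unusedVariables false
set_option linter.style.haveILetI false
universe u
open CategoryTheory CategoryTheory.Limits AlgebraicGeometry Pretriangulated
attribute [local instance] HasDerivedCategory.standard

namespace Groth.Agent.Lib.Helper5.ProjF2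

open Groth.Agent.Lib.Helper5.RpushSupp

variable {Y : Scheme.{u}}

/-- an object of `D(O_Y)` which is locally zero is zero -/
theorem isZero_of_locally_D (C : DCoh.D Y)
    (h : ∀ y : Y, ∃ V : Y.Opens, y ∈ V ∧ IsZero ((DCoh.restrictD V.ι).obj C)) : IsZero C := by
  apply isZero_of_forall_isZero_HD
  intro i
  apply Groth.Agent.Lib.Helper5.LocalCoh.isZero_of_locally
  intro y
  obtain ⟨V, hy, hV⟩ := h y
  refine ⟨V, hy, ?_⟩
  exact IsZero.of_iso (Functor.map_isZero (DerivedCategory.homologyFunctor _ i) hV)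
    (hdRestrictDIso C V i)

/-- a morphism of `D(O_Y)` which is locally an isomorphism is an isomorphism -/
theorem isIso_of_locally_D {A B : DCoh.D Y} (φ : A ⟶ B)
    (h : ∀ y : Y, ∃ V : Y.Opens, y ∈ V ∧ IsIso ((DCoh.restrictD V.ι).map φ)) : IsIso φ := by
  obtain ⟨C, b, c, hT⟩ := Pretriangulated.distinguished_cocone_triangle φ
  refine (Triangle.isZero₃_iff_isIso₁ _ hT).1 ?_
  show IsZero C
  apply isZero_of_locally_D
  intro y
  obtain ⟨V, hy, hV⟩ := h y
  refine ⟨V, hy, ?_⟩
  have hT' := (DCoh.restrictD V.ι).map_distinguished _ hT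
  exact (Triangle.isZero₃_iff_isIso₁ _ hT').2 hV

end Groth.Agent.Lib.Helper5.ProjF2
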