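import Mathlib
import Groth.Agent.Lib.Helper5.ProjF2.Rho
import Groth.Agent.Lib.Helper5.ProjF.PullTen

/-!
# Quasi-isomorphisms of K-flat complexes are preserved by `M ⊗ -` and `I ⊗ f^* -` (helper5)
-/
set_option autoImplicit false
set_option linter.unusedSectionVars false
set_option linter.unusedVariables false
set_option linter.style.haveILetI false
universe u
open CategoryTheory CategoryTheory.Limits HomologicalComplex AlgebraicGeometry
attribute [local instance] HasDerivedCategory.standard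

namespace Groth.Agent.Lib.Helper5.ProjF2

open Groth.Agent.Lib.Helper5.ProjF Groth.Agent.Lib.Helper5.KFlatSiteQ

variable {X Y : Scheme.{u}}

/-- `M ⊗ -` preserves quasi-isomorphisms between K-flat complexes, for every complex `M` -/
theorem quasiIso_tensor_map_of_isKFlat (M : CochainComplex Y.Modules ℤ)
    {F₁ F₂ : CochainComplex Y.Modules ℤ} (a : F₁ ⟶ F₂) (h₁ : DCoh.IsKFlat F₁)
    (h₂ : DCoh.IsKFlat F₂) (ha : QuasiIso a) :
    QuasiIso ((DCoh.tensorCx.obj M).map a) := by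
  obtain ⟨M', m, hM', _, hm, _⟩ := exists_isKFlat_resolution (O := Y.sheaf) M
  have hm' : QuasiIso m := hm
  have hM'' : DCoh.IsKFlat M' := hM'
  have sq : (DCoh.tensorCx.map m).app F₁ ≫ (DCoh.tensorCx.obj M).map a =
      (DCoh.tensorCx.obj M').map a ≫ (DCoh.tensorCx.map m).app F₂ :=
    ((DCoh.tensorCx.map m).naturality a).symm
  haveI q1 : QuasiIso ((DCoh.tensorCx.map m).app F₁) :=
    Groth.Agent.Lib.Helper5.LTenDer.quasiIso_tensor_flip F₁ h₁ m hm'
  haveI q2 : QuasiIso ((DCoh.tensorCx.map m).app F₂) :=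
    Groth.Agent.Lib.Helper5.LTenDer.quasiIso_tensor_flip F₂ h₂ m hm'
  haveI q3 : QuasiIso ((DCoh.tensorCx.obj M').map a) :=
    Groth.Agent.Lib.Helper5.LTenDer.quasiIso_tensor_obj M' hM'' a ha
  haveI q4 : QuasiIso ((DCoh.tensorCx.map m).app F₁ ≫ (DCoh.tensorCx.obj M).map a) := by
    rw [sq]
    infer_instance
  exact quasiIso_of_comp_left ((DCoh.tensorCx.map m).app F₁) ((DCoh.tensorCx.obj M).map a)

variable (f : X ⟶ Y) (I : CochainComplex X.Modules ℤ)

theorem quasiIso_LF_map {F₁ F₂ : CochainComplex Y.Modules ℤ} (a : F₁ ⟶ F₂)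
    (h₁ : DCoh.IsKFlat F₁) (h₂ : DCoh.IsKFlat F₂) (ha : QuasiIso a) :
    QuasiIso ((LF f I).map a) :=
  quasiIso_tensor_map_of_isKFlat _ a h₁ h₂ ha

theorem quasiIso_KF_map {F₁ F₂ : CochainComplex Y.Modules ℤ} (a : F₁ ⟶ F₂)
    (h₁ : DCoh.IsKFlat F₁) (h₂ : DCoh.IsKFlat F₂) (ha : QuasiIso a) :
    QuasiIso ((KF f I).map a) := by
  haveI := ha
  have hq : QuasiIso ((pullCx f).map a) := quasiIso_pullback_map_of_isKFlat f a h₁ h₂ ha
  exact quasiIso_tensor_map_of_isKFlat I ((pullCx f).map a)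
    (Groth.Agent.Lib.Helper5.KFlatPull.isKFlat_pullback f F₁ h₁)
    (Groth.Agent.Lib.Helper5.KFlatPull.isKFlat_pullback f F₂ h₂) hq

end Groth.Agent.Lib.Helper5.ProjF2
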