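import Mathlib
import Groth.Agent.Lib.Helper5.ProjF2.QisTen
import Groth.Agent.Lib.Helper5.ProjF2.LocIso

/-!
# Transfer of "`ρ_F` is an isomorphism over `V`" along maps `F₁ ⟶ F₂` (helper5)
-/
set_option autoImplicit false
set_option linter.unusedSectionVars false
set_option linter.unusedVariables false
set_option linter.style.haveILetI false
universe u
open CategoryTheory CategoryTheory.Limits HomologicalComplex AlgebraicGeometry
attribute [local instance] HasDerivedCategory.standard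

namespace Groth.Agent.Lib.Helper5.ProjF2

lemma isIso_iff_of_sq {C : Type*} [Category C] {A B A' B' : C} (α : A ⟶ B) (r₂ : B ⟶ B')
    (r₁ : A ⟶ A') (β : A' ⟶ B') [IsIso α] [IsIso β] (h : α ≫ r₂ = r₁ ≫ β) :
    IsIso r₁ ↔ IsIso r₂ := by
  constructor
  · intro h1
    have : r₂ = inv α ≫ r₁ ≫ β := by rw [← h, IsIso.inv_hom_id_assoc]
    rw [this]
    infer_instance
  · intro h2
    have : r₁ = α ≫ r₂ ≫ inv β := by rw [← Category.assoc, h, Category.assoc, IsIso.hom_inv_id,
      Category.comp_id]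
    rw [this]
    infer_instance

variable {X Y : Scheme.{u}} (f : X ⟶ Y) (I : CochainComplex X.Modules ℤ) [DCoh.HasRpush f]

/-- `ρ_F` is an isomorphism over `V` -/
def RhoIsoOn (V : Y.Opens) (F : CochainComplex Y.Modules ℤ) : Prop :=
  IsIso ((DCoh.restrictD V.ι).map (rho f I F))

theorem rhoIsoOn_iff (V : Y.Opens) {F₁ F₂ : CochainComplex Y.Modules ℤ} (a : F₁ ⟶ F₂)
    (hL : IsIso ((DCoh.restrictD V.ι).map (DerivedCategory.Q.map ((LF f I).map a))))
    (hK : IsIso ((DCoh.restrictD V.ι).map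
      ((DCoh.Rpush f).map (DerivedCategory.Q.map ((KF f I).map a))))) :
    RhoIsoOn f I V F₁ ↔ RhoIsoOn f I V F₂ := by
  have h := congrArg (fun φ => (DCoh.restrictD V.ι).map φ) (rho_naturality f I a)
  simp only [Functor.map_comp] at h
  exact isIso_iff_of_sq _ _ _ _ h

theorem rhoIsoOn_iff_of_quasiIso (V : Y.Opens) {F₁ F₂ : CochainComplex Y.Modules ℤ}
    (a : F₁ ⟶ F₂) (h₁ : DCoh.IsKFlat F₁) (h₂ : DCoh.IsKFlat F₂) (ha : QuasiIso a) :
    RhoIsoOn f I V F₁ ↔ RhoIsoOn f I V F₂ := by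
  haveI q1 : QuasiIso ((LF f I).map a) := quasiIso_LF_map f I a h₁ h₂ ha
  haveI q2 : QuasiIso ((KF f I).map a) := quasiIso_KF_map f I a h₁ h₂ ha
  haveI : IsIso (DerivedCategory.Q.map ((LF f I).map a)) :=
    (DerivedCategory.isIso_Q_map_iff_quasiIso _ _).2 q1
  haveI : IsIso (DerivedCategory.Q.map ((KF f I).map a)) :=
    (DerivedCategory.isIso_Q_map_iff_quasiIso _ _).2 q2
  exact rhoIsoOn_iff f I V a inferInstance inferInstance

end Groth.Agent.Lib.Helper5.ProjF2
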