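import Mathlib
import Groth.Agent.Lib.Helper5.ProjF2.Transfer
import Groth.Agent.Lib.Helper5.ProjF2.RestrNat
import Groth.Agent.Lib.Helper5.Stalk.RpushRes
import Groth.Agent.Lib.Helper5.Perf.Pull
import Groth.Agent.Lib.Helper5.Perf.LocRepr

/-!
# Transfer of "`ρ_F` is an isomorphism over `V`" along maps which are isomorphisms over `V`
(helper5)
-/
set_option autoImplicit false
set_option linter.unusedSectionVars false
set_option linter.unusedVariables false
set_option linter.style.haveILetI false
universe u
open CategoryTheory CategoryTheory.Limits HomologicalComplex AlgebraicGeometry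
attribute [local instance] HasDerivedCategory.standard

namespace Groth.Agent.Lib.Helper5.ProjF2

open Groth.Agent.Lib.Helper5.RpushRes Groth.Agent.Lib.Helper5.PerfPull
  Groth.Agent.Helper3.KInjDer

variable {X Y : Scheme.{u}}

/-- `restrictD (Q φ)` is an isomorphism when the restriction of `φ` is -/
theorem isIso_restrictD_Q_map {U : Scheme.{u}} (j : U ⟶ X) [IsOpenImmersion j]
    [PreservesFiniteLimits (Scheme.Modules.restrictFunctor j)]
    {K K' : CochainComplex X.Modules ℤ} (φ : K ⟶ K') (h : IsIso ((resCxF j).map φ)) :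
    IsIso ((DCoh.restrictD j).map (DerivedCategory.Q.map φ)) := by
  have := Groth.Agent.Lib.Helper5.LocRepr.map_Q_map (Scheme.Modules.restrictFunctor j) φ
  rw [this]
  haveI : IsIso (DerivedCategory.Q.map
      (((Scheme.Modules.restrictFunctor j).mapHomologicalComplex (ComplexShape.up ℤ)).map φ)) := by
    haveI := h
    infer_instance
  infer_instance

variable (f : X ⟶ Y) (I : CochainComplex X.Modules ℤ) [DCoh.HasRpush f]

theorem isIso_resCx_of_f {U : Scheme.{u}} (j : U ⟶ X) [IsOpenImmersion j]
    {K K' : CochainComplex X.Modules ℤ} (φ : K ⟶ K')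
    (h : ∀ n, IsIso ((Scheme.Modules.restrictFunctor j).map (φ.f n))) :
    IsIso ((resCxF j).map φ) := by
  haveI : ∀ n, IsIso (((resCxF j).map φ).f n) := fun n => h n
  exact HomologicalComplex.Hom.isIso_of_components _

theorem isIso_restrict_pullback_map (V : Y.Opens) {A A' : Y.Modules} (e : A ⟶ A')
    (h : IsIso ((Scheme.Modules.restrictFunctor V.ι).map e)) :
    IsIso ((Scheme.Modules.restrictFunctor (f ⁻¹ᵁ V).ι).map
      ((Scheme.Modules.pullback f).map e)) := by
  let τ := restrictPullbackIso f (f ∣_ V) (morphismRestrict_ι f V)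
  have h2 : IsIso ((Scheme.Modules.restrictFunctor V.ι ⋙ Scheme.Modules.pullback (f ∣_ V)).map e) := by
    haveI := h
    show IsIso ((Scheme.Modules.pullback (f ∣_ V)).map
      ((Scheme.Modules.restrictFunctor V.ι).map e))
    infer_instance
  exact (NatIso.isIso_map_iff τ e).2 h2

theorem rhoIsoOn_iff_of_restrict_iso (V : Y.Opens) {F₁ F₂ : CochainComplex Y.Modules ℤ}
    (a : F₁ ⟶ F₂) (ha : ∀ n, IsIso ((Scheme.Modules.restrictFunctor V.ι).map (a.f n))) :
    RhoIsoOn f I V F₁ ↔ RhoIsoOn f I V F₂ := by
  haveI : DCoh.HasRpush (f ∣_ V) := hasRightDerivedFunctor (DCoh.pushKh (f ∣_ V))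
  apply rhoIsoOn_iff f I V a
  · apply isIso_restrictD_Q_map
    apply isIso_restrict_tensor_map
    exact isIso_resCx_of_f V.ι a ha
  · have h1 : IsIso ((DCoh.restrictD (f ⁻¹ᵁ V).ι).map
        (DerivedCategory.Q.map ((KF f I).map a))) := by
      apply isIso_restrictD_Q_map
      apply isIso_restrict_tensor_map
      apply isIso_resCx_of_f
      intro n
      exact isIso_restrict_pullback_map f V (a.f n) (ha n)
    have h2 : IsIso ((DCoh.restrictD (f ⁻¹ᵁ V).ι ⋙ DCoh.Rpush (f ∣_ V)).map
        (DerivedCategory.Q.map ((KF f I).map a))) := by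
      haveI := h1
      show IsIso ((DCoh.Rpush (f ∣_ V)).map ((DCoh.restrictD (f ⁻¹ᵁ V).ι).map
        (DerivedCategory.Q.map ((KF f I).map a))))
      infer_instance
    exact (NatIso.isIso_map_iff (rpushRestrictIso f V) _).2 h2

end Groth.Agent.Lib.Helper5.ProjF2
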