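import Mathlib

/-!
# Additive functors preserve coproducts with finitely many nonzero summands (helper5)
-/
set_option autoImplicit false
set_option linter.unusedSectionVars false
set_option linter.unusedVariables false
set_option linter.style.haveILetI false
open CategoryTheory CategoryTheory.Limits

namespace Groth.Agent.Lib.Helper5.ProjF2

universe w v₁ u₁ v₂ u₂

variable {C : Type u₁} [Category.{v₁} C] [Preadditive C] {D : Type u₂} [Category.{v₂} D]
  [Preadditive D]

section

variable {ι : Type w} [DecidableEq ι] {X : ι → C} (c : Cofan X) (hc : IsColimit c)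

/-- the projection of a coproduct onto a summand -/
noncomputable def cofanProj (i : ι) : c.pt ⟶ X i :=
  Cofan.IsColimit.desc hc (Function.update (fun _ => 0) i (𝟙 (X i)))

lemma inj_cofanProj_self (i : ι) : c.inj i ≫ cofanProj c hc i = 𝟙 (X i) := by
  unfold cofanProj
  rw [Cofan.IsColimit.fac]
  simp

lemma inj_cofanProj_of_ne {k i : ι} (h : k ≠ i) : c.inj k ≫ cofanProj c hc i = 0 := by
  unfold cofanProj
  rw [Cofan.IsColimit.fac]
  simp [Function.update_of_ne h]

lemma sum_cofanProj_inj (s : Finset ι) (hs : ∀ i, i ∉ s → IsZero (X i)) :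
    ∑ i ∈ s, cofanProj c hc i ≫ c.inj i = 𝟙 c.pt := by
  apply Cofan.IsColimit.hom_ext hc
  intro k
  rw [Preadditive.comp_sum, Category.comp_id]
  by_cases hk : k ∈ s
  · rw [Finset.sum_eq_single_of_mem k hk]
    · rw [← Category.assoc, inj_cofanProj_self, Category.id_comp]
    · intro i _ hik
      rw [← Category.assoc, inj_cofanProj_of_ne c hc (Ne.symm hik), zero_comp]
  · have h0 : c.inj k = 0 := (hs k hk).eq_of_src _ _
    rw [h0]
    simp

/-- an additive functor preserves a coproduct with finitely many nonzero summands -/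
noncomputable def isColimitMapCoconeOfFinSupp (G : C ⥤ D) [G.Additive] (s : Finset ι)
    (hs : ∀ i, i ∉ s → IsZero (X i)) : IsColimit (G.mapCocone c) where
  desc t := ∑ i ∈ s, G.map (cofanProj c hc i) ≫ t.ι.app ⟨i⟩
  fac t j := by
    obtain ⟨k⟩ := j
    show G.map (c.inj k) ≫ _ = _
    rw [Preadditive.comp_sum]
    by_cases hk : k ∈ s
    · rw [Finset.sum_eq_single_of_mem k hk]
      · rw [← Category.assoc, ← G.map_comp, inj_cofanProj_self, G.map_id, Category.id_comp]
      · intro i _ hik
        rw [← Category.assoc, ← G.map_comp, inj_cofanProj_of_ne c hc (Ne.symm hik), G.map_zero,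
          zero_comp]
    · have h0 : IsZero (G.obj (X k)) := Functor.map_isZero G (hs k hk)
      have h1 : t.ι.app ⟨k⟩ = 0 := h0.eq_of_src _ _
      rw [h1]
      apply Finset.sum_eq_zero
      intro i _
      exact h0.eq_of_src _ _
  uniq t m hm := by
    have h1 : m = G.map (𝟙 c.pt) ≫ m := by rw [G.map_id, Category.id_comp]
    rw [h1, ← sum_cofanProj_inj c hc s hs, G.map_sum, Preadditive.sum_comp]
    apply Finset.sum_congr rfl
    intro i _
    rw [G.map_comp, Category.assoc]
    congr 1
    exact hm ⟨i⟩

end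

/-- a morphism between the points of two colimit cocones compatible with a natural isomorphism of
the diagrams is an isomorphism -/
theorem isIso_of_cocone_natIso {J : Type*} [Category J] {F₁ F₂ : J ⥤ D} {c₁ : Cocone F₁}
    {c₂ : Cocone F₂} (h₁ : IsColimit c₁) (h₂ : IsColimit c₂) (e : F₁ ≅ F₂)
    (m : c₁.pt ⟶ c₂.pt) (hm : ∀ j, c₁.ι.app j ≫ m = e.hom.app j ≫ c₂.ι.app j) : IsIso m := by
  have : m = (IsColimit.coconePointsIsoOfNatIso h₁ h₂ e).hom := by
    apply h₁.hom_ext
    intro j
    rw [hm, IsColimit.comp_coconePointsIsoOfNatIso_hom]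
  rw [this]
  infer_instance

end Groth.Agent.Lib.Helper5.ProjF2
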