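import Mathlib
import Groth.Agent.Lib.Helper5.ProjF2.FinSupp

/-!
# Stability properties of K-injective complexes (helper5)
-/
set_option autoImplicit false
set_option linter.unusedSectionVars false
set_option linter.unusedVariables false
set_option linter.style.haveILetI false
open CategoryTheory CategoryTheory.Limits HomologicalComplex Pretriangulated

namespace Groth.Agent.Lib.Helper5.ProjF2

variable {C : Type*} [Category C] [Abelian C]

theorem isKInjective_of_isZero (L : CochainComplex C ℤ) (h : IsZero L) : L.IsKInjective where
  nonempty_homotopy_zero f _ := ⟨Homotopy.ofEq (h.eq_of_tgt _ _)⟩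

/-- the middle term of a degreewise split short exact sequence with K-injective ends is
K-injective -/
theorem isKInjective_of_degreewiseSplit (S : ShortComplex (CochainComplex C ℤ))
    (σ : ∀ n, (S.map (eval C (ComplexShape.up ℤ) n)).Splitting)
    [S.X₁.IsKInjective] [S.X₃.IsKInjective] : S.X₂.IsKInjective := by
  rw [CochainComplex.isKInjective_iff_rightOrthogonal]
  have hT : CochainComplex.trianglehOfDegreewiseSplit S σ ∈ distTriang _ :=
    (HomotopyCategory.distinguished_iff_iso_trianglehOfDegreewiseSplit _).2
      ⟨S, σ, ⟨Iso.refl _⟩⟩
  exact ObjectProperty.ext_of_isTriangulatedClosed₂ _ _ hT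
    (CochainComplex.IsKInjective.rightOrthogonal S.X₁)
    (CochainComplex.IsKInjective.rightOrthogonal S.X₃)

/-- a finite coproduct of K-injective complexes is K-injective -/
theorem isKInjective_of_finite_cofan {ι : Type*} [Finite ι] {L : ι → CochainComplex C ℤ}
    (c : Cofan L) (hc : IsColimit c) (h : ∀ i, (L i).IsKInjective) : c.pt.IsKInjective where
  nonempty_homotopy_zero {K} f hK := by
    classical
    haveI := Fintype.ofFinite ι
    have hsum := sum_cofanProj_inj c hc Finset.univ
      (fun i hi => absurd (Finset.mem_univ i) hi)
    have hf : f = ∑ i : ι, (f ≫ cofanProj c hc i) ≫ c.inj i := by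
      conv_lhs => rw [← Category.comp_id f, ← hsum, Preadditive.comp_sum]
      apply Finset.sum_congr rfl
      intro i _
      rw [Category.assoc]
    have h0 : (HomotopyCategory.quotient C (ComplexShape.up ℤ)).map f = 0 := by
      rw [hf, Functor.map_sum]
      apply Finset.sum_eq_zero
      intro i _
      haveI := h i
      rw [Functor.map_comp,
        HomotopyCategory.eq_of_homotopy _ _
          (CochainComplex.IsKInjective.homotopyZero (f ≫ cofanProj c hc i) hK),
        Functor.map_zero, zero_comp]
    exact ⟨HomotopyCategory.homotopyOfEq _ _ (by rw [h0, Functor.map_zero])⟩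

end Groth.Agent.Lib.Helper5.ProjF2
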