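import Mathlib
import Groth.Agent.Lib.Helper5.ProjF2.KIExt
import Groth.Agent.Lib.Helper5.LTen.BifunSplit
import Groth.Agent.Lib.Helper5.RHomCoh.OOShift

/-!
# `A[-a] ⊗ I` is K-injective for `A` finite free and `I` K-injective (helper5)
-/
set_option autoImplicit false
set_option linter.unusedSectionVars false
set_option linter.unusedVariables false
set_option linter.style.haveILetI false
universe u
open CategoryTheory CategoryTheory.Limits HomologicalComplex AlgebraicGeometry

namespace Groth.Agent.Lib.Helper5.ProjF2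

open Groth.Agent.Lib.Helper5.LTenTri Groth.Agent.Lib.Helper5.RHomQC
  Groth.Agent.Lib.Helper5.RHomCoh

variable {Z : Scheme.{u}} (I : CochainComplex Z.Modules ℤ) [I.IsKInjective]

/-- `T ↦ T ⊗ I` -/
noncomputable abbrev PhiI : CochainComplex Z.Modules ℤ ⥤ CochainComplex Z.Modules ℤ :=
  (DCoh.tensorCx (X := Z)).flip.obj I

instance : (PhiI I).Additive :=
  additive_flip_obj (DCoh.tensorBi (X := Z)) I

theorem isKInjective_PhiI_OCx (a : ℤ) : ((PhiI I).obj (OCx Z a)).IsKInjective :=
  CochainComplex.isKInjective_of_iso (tensorOCxIso I a).symm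

theorem isKInjective_PhiI_single_free (a : ℤ) (r : ℕ) :
    ((PhiI I).obj ((CochainComplex.singleFunctor Z.Modules a).obj (FlatMod.freeMod Z r))).IsKInjective := by
  classical
  let Ψ : Z.Modules ⥤ CochainComplex Z.Modules ℤ := CochainComplex.singleFunctor Z.Modules a ⋙ PhiI I
  let A : Fin r → Z.Modules := fun _ => Coh.structureModule Z
  have hc : IsColimit (Cofan.mk (∐ A) (Sigma.ι A)) := coproductIsCoproduct A
  have h1 := isColimitMapCoconeOfFinSupp (Cofan.mk (∐ A) (Sigma.ι A)) hc Ψ Finset.univ
    (fun i hi => absurd (Finset.mem_univ i) hi)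
  have h2 := isColimitMapCoconeCofanMkEquiv Ψ A (Sigma.ι A) h1
  exact isKInjective_of_finite_cofan _ h2 (fun _ => isKInjective_PhiI_OCx I a)

/-- a complex concentrated in degree `a` with a finite free term -/
theorem isKInjective_PhiI_of_conc (C : CochainComplex Z.Modules ℤ) (a : ℤ)
    (hC : ∀ q, q ≠ a → IsZero (C.X q)) (r : ℕ) (e : C.X a ≅ FlatMod.freeMod Z r) :
    ((PhiI I).obj C).IsKInjective := by
  haveI : C.IsStrictlyGE a := by
    rw [CochainComplex.isStrictlyGE_iff]
    intro i hi
    exact hC i (by omega)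
  haveI : C.IsStrictlyLE a := by
    rw [CochainComplex.isStrictlyLE_iff]
    intro i hi
    exact hC i (by omega)
  obtain ⟨Y, ⟨e'⟩⟩ := CochainComplex.exists_iso_single C a
  have eY : Y ≅ FlatMod.freeMod Z r :=
    (HomologicalComplex.singleObjXSelf (ComplexShape.up ℤ) a Y).symm ≪≫
      ((HomologicalComplex.eval _ _ a).mapIso e').symm ≪≫ e
  haveI := isKInjective_PhiI_single_free I a r
  exact CochainComplex.isKInjective_of_iso
    ((PhiI I).mapIso (e' ≪≫ (CochainComplex.singleFunctor Z.Modules a).mapIso eY).symm)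

end Groth.Agent.Lib.Helper5.ProjF2
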