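import Mathlib
import Groth.Agent.Lib.Helper5.ProjF2.KISingle
import Groth.Agent.Lib.Helper5.Misc.StupidTruncH
import Groth.Agent.Lib.Helper5.Perf.DevGen

/-!
# `T ⊗ I` is K-injective for `T` a bounded complex of finite free modules and `I` K-injective
(helper5)
-/
set_option autoImplicit false
set_option linter.unusedSectionVars false
set_option linter.unusedVariables false
set_option linter.style.haveILetI false
universe u
open CategoryTheory CategoryTheory.Limits HomologicalComplex AlgebraicGeometry
attribute [local instance] HasDerivedCategory.standard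

namespace Groth.Agent.Lib.Helper5.ProjF2

open Groth.Agent.Lib.Helper5.LTenTri Groth.Agent.Lib.Helper5.Misc.StupidTrunc

section Split

variable {A : Type*} [Category A] [Abelian A] (K : CochainComplex A ℤ)

/-- the degreewise splitting of `0 → σ^{≥ a+1} K → σ^{≥ a} K → Q → 0` -/
noncomputable def quotSCSplitting (a n : ℤ) :
    ((quotSC K a).map (eval A (ComplexShape.up ℤ) n)).Splitting :=
  ShortComplex.Splitting.ofExactOfRetraction _ (quotSC_degree K a n).exact
    (tι K a n ≫ tπ K (a + 1) n) (by
      show (tι K (a + 1) n ≫ tπ K a n) ≫ tι K a n ≫ tπ K (a + 1) n = 𝟙 _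
      by_cases h : a + 1 ≤ n
      · rw [Category.assoc, ← Category.assoc (tπ K a n), tπ_tι K (show a ≤ n by omega),
          Category.id_comp, tι_tπ]
      · exact (isZero_tX K h).eq_of_src _ _) (quotSC_degree K a n).epi_g

end Split

variable {Z : Scheme.{u}} (I : CochainComplex Z.Modules ℤ) [I.IsKInjective]

theorem isKInjective_PhiI_of_bounded_free (T : CochainComplex Z.Modules ℤ) (a b : ℤ)
    (hT : ∀ q, (q < a ∨ b < q) → IsZero (T.X q))
    (hfree : ∀ q : ℤ, ∃ r : ℕ, Nonempty (T.X q ≅ FlatMod.freeMod Z r)) :
    ((PhiI I).obj T).IsKInjective := by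
  have main : ∀ (k : ℕ) (a' : ℤ), a' + k = b + 1 →
      ((PhiI I).obj (sigmaGE T a')).IsKInjective := by
    intro k
    induction k with
    | zero =>
      intro a' ha'
      apply isKInjective_of_isZero
      apply Functor.map_isZero
      apply Groth.Agent.Lib.Helper5.DevGen.isZero_of_X
      intro n
      by_cases hn : a' ≤ n
      · have : IsZero (T.X n) := hT n (Or.inr (by simp at ha'; omega))
        exact this.of_iso (eqToIso (tX_pos T hn))
      · exact isZero_tX T hn
    | succ k ih =>
      intro a' ha'
      haveI h1 : ((PhiI I).obj (sigmaGE T (a' + 1))).IsKInjective :=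
        ih (a' + 1) (by push_cast at ha'; omega)
      obtain ⟨r, ⟨e⟩⟩ := hfree a'
      haveI h3 : ((PhiI I).obj (quotSC T a').X₃).IsKInjective :=
        isKInjective_PhiI_of_conc I _ a' (fun q hq => isZero_quotSC_X₃ T a' q hq) r
          (quotSCX₃Iso T a' ≪≫ e)
      let S := (quotSC T a').map (PhiI I)
      haveI : S.X₁.IsKInjective := h1
      haveI : S.X₃.IsKInjective := h3
      exact isKInjective_of_degreewiseSplit S
        (splittingMap (DCoh.tensorBi (X := Z)) I (quotSC T a') (quotSCSplitting T a'))
  by_cases hab : a ≤ b + 1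
  · obtain ⟨k, hk⟩ := Int.eq_ofNat_of_zero_le (show 0 ≤ b + 1 - a by omega)
    haveI := main k a (by omega)
    haveI : ∀ n, IsIso ((ιGE T a).f n) := by
      intro n
      by_cases hn : a ≤ n
      · exact isIso_ιGE_f T hn
      · have h1 : IsZero ((sigmaGE T a).X n) := isZero_sigmaGE_X T (by omega)
        have h2 : IsZero (T.X n) := hT n (Or.inl (by omega))
        exact ⟨0, h1.eq_of_src _ _, h2.eq_of_src _ _⟩
    haveI : IsIso (ιGE T a) := HomologicalComplex.Hom.isIso_of_components _
    exact CochainComplex.isKInjective_of_iso ((PhiI I).mapIso (asIso (ιGE T a)))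
  · apply isKInjective_of_isZero
    apply Functor.map_isZero
    apply Groth.Agent.Lib.Helper5.DevGen.isZero_of_X
    intro n
    exact hT n (by omega)

end Groth.Agent.Lib.Helper5.ProjF2
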