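import Mathlib
import Groth.Agent.Lib.Helper5.ProjF2.TotMap
import Groth.Agent.Lib.Helper5.ProjF2.FinSupp

/-!
# `totMap` is degreewise an isomorphism after applying a functor, for a bounded second variable
(helper5)
-/
set_option autoImplicit false
set_option linter.unusedSectionVars false
set_option linter.unusedVariables false
set_option linter.style.haveILetI false
universe v₁ u₁ v₂ u₂ v₃ u₃ v₄ u₄ v₅ u₅ v₆ u₆ v₇ u₇
open CategoryTheory CategoryTheory.Limits HomologicalComplex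

namespace Groth.Agent.Lib.Helper5.TotMap

open Groth.Agent.Lib.Helper5.TotFun Groth.Agent.Lib.Helper5.ProjF2

variable {A₁ : Type u₁} [Category.{v₁} A₁] [Preadditive A₁]
  {A₂ : Type u₂} [Category.{v₂} A₂] [Preadditive A₂]
  {A : Type u₃} [Category.{v₃} A] [Preadditive A]
  {B₁ : Type u₄} [Category.{v₄} B₁] [Preadditive B₁]
  {B₂ : Type u₅} [Category.{v₅} B₂] [Preadditive B₂]
  {B : Type u₆} [Category.{v₆} B] [Preadditive B]
  {D : Type u₇} [Category.{v₇} D] [Preadditive D]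
  (TA : A₁ ⥤ A₂ ⥤ A) [TA.PreservesZeroMorphisms] [∀ X, (TA.obj X).PreservesZeroMorphisms]
  (TB : B₁ ⥤ B₂ ⥤ B) [TB.PreservesZeroMorphisms] [∀ X, (TB.obj X).PreservesZeroMorphisms]
  (G₁ : A₁ ⥤ B₁) [G₁.Additive] (G₂ : A₂ ⥤ B₂) [G₂.Additive] (G : A ⥤ B) [G.Additive]
  (ψ : ∀ (P : A₁) (N : A₂), (TB.obj (G₁.obj P)).obj (G₂.obj N) ⟶ G.obj ((TA.obj P).obj N))
  (F : CochainComplex A₁ ℤ) (K : CochainComplex A₂ ℤ)
  [HasMapBifunctor F K TA (ComplexShape.up ℤ)]
  [HasMapBifunctor ((G₁.mapHomologicalComplex _).obj F) ((G₂.mapHomologicalComplex _).obj K) TB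
    (ComplexShape.up ℤ)]
  (R : B ⥤ D) [R.Additive]
  [∀ n : ℤ, PreservesColimitsOfShape (Discrete ((ComplexShape.π (ComplexShape.up ℤ)
    (ComplexShape.up ℤ) (ComplexShape.up ℤ)) ⁻¹' {n})) R]

open Classical in
theorem isIso_map_eMap (n : ℤ) (s : Finset ℤ) (hK : ∀ q, q ∉ s → IsZero (K.X q))
    (hψ : ∀ p q, IsIso (R.map (ψ (F.X p) (K.X q)))) :
    IsIso (R.map (eMap TA TB G₁ G₂ G ψ F K n)) := by
  let hA := (((TA.mapBifunctorHomologicalComplex _ _).obj F).obj K).toGradedObject.isColimitCofanMapObj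
    (ComplexShape.π (ComplexShape.up ℤ) (ComplexShape.up ℤ) (ComplexShape.up ℤ)) n
  let hB := (((TB.mapBifunctorHomologicalComplex _ _).obj ((G₁.mapHomologicalComplex _).obj F)).obj
        ((G₂.mapHomologicalComplex _).obj K)).toGradedObject.isColimitCofanMapObj
    (ComplexShape.π (ComplexShape.up ℤ) (ComplexShape.up ℤ) (ComplexShape.up ℤ)) n
  let t : Finset ((ComplexShape.π (ComplexShape.up ℤ) (ComplexShape.up ℤ) (ComplexShape.up ℤ)) ⁻¹'
      {n}) := s.image (fun q => ⟨(n - q, q), by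
        show (n - q) + q = n
        omega⟩)
  have ht : ∀ i, i ∉ t → IsZero
      ((((TA.mapBifunctorHomologicalComplex (ComplexShape.up ℤ) (ComplexShape.up ℤ)).obj F).obj
        K).toGradedObject i.1) := by
    rintro ⟨⟨p, q⟩, hpq⟩ hi
    have hpq' : p + q = n := hpq
    have hq : q ∉ s := by
      intro hq
      apply hi
      refine Finset.mem_image.2 ⟨q, hq, ?_⟩
      apply Subtype.ext
      show (n - q, q) = (p, q)
      have : n - q = p := by omega
      rw [this]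
    exact Functor.map_isZero (TA.obj (F.X p)) (hK q hq)
  have hA' := isColimitMapCoconeOfFinSupp _ hA (G ⋙ R) t ht
  have hB' := isColimitOfPreserves R hB
  haveI := hψ
  refine isIso_of_cocone_natIso hB' hA'
    (Discrete.natIso (fun i => @asIso _ _ _ _ (R.map (ψ (F.X i.as.1.1) (K.X i.as.1.2)))
      (hψ i.as.1.1 i.as.1.2))) _ ?_
  rintro ⟨⟨⟨p, q⟩, hpq⟩⟩
  have h1 := ι_eMap TA TB G₁ G₂ G ψ F K p q n hpq
  have h2 := congrArg (fun φ => R.map φ) h1
  simp only [Functor.map_comp] at h2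
  exact h2

end Groth.Agent.Lib.Helper5.TotMap
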