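import Mathlib
import Groth.Agent.Lib.Helper5.ProjF.PiNat
import Groth.Agent.Lib.Helper1.PullGen
import Groth.Agent.Lib.Helper1.TensGen
import Groth.Agent.Lib.Helper1.TwForm1

/-!
# The projection formula map is an isomorphism over an open where `A` is trivial (helper5)
-/
set_option autoImplicit false
set_option linter.unusedSectionVars false
set_option linter.unusedVariables false
set_option linter.style.haveILetI false
universe u
open CategoryTheory CategoryTheory.Limits Opposite TopologicalSpace AlgebraicGeometry
open Groth.Agent.Helper1 Groth.Agent.Helper1.TmulLib Groth.Agent.Helper1.QcCech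
  Groth.Agent.Helper1.LGen Groth.Agent.Helper1.PullSec

namespace Groth.Agent.Lib.Helper5.ProjF2

open Groth.Agent.Lib.Helper5.ProjF

variable {X Y : Scheme.{u}} (f : X ⟶ Y) (M : X.Modules)

/-- over an open where `A` has a free generator, `π_{M,A}` is bijective on sections -/
theorem bijective_piMap_app_of_isGen (A : Y.Modules) (W : Y.Opens) (a : Γ(A, W))
    (ha : IsGen A W a) : Function.Bijective ((piMap f M A).app W) := by
  have hb₁ := TensGen.bijective_tm_of_isGen ((Scheme.Modules.pushforward f).obj M) ha
  have hσ := PullGen.isGen_σ f ha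
  have hb₂ := TensGen.bijective_tm_of_isGen M hσ
  have hcomp : (fun m : Γ((Scheme.Modules.pushforward f).obj M, W) =>
      (piMap f M A).app W (tm ((Scheme.Modules.pushforward f).obj M) A W m a)) =
      (fun m : Γ(M, f ⁻¹ᵁ W) => tm M ((Scheme.Modules.pullback f).obj A) (f ⁻¹ᵁ W) m
        (σ f A W a)) := by
    funext m
    exact piMap_tm f M A W m a
  have h3 : Function.Bijective ((piMap f M A).app W ∘
      (fun m : Γ((Scheme.Modules.pushforward f).obj M, W) =>
        tm ((Scheme.Modules.pushforward f).obj M) A W m a)) := by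
    have : ((piMap f M A).app W ∘
      (fun m : Γ((Scheme.Modules.pushforward f).obj M, W) =>
        tm ((Scheme.Modules.pushforward f).obj M) A W m a)) = (fun m : Γ(M, f ⁻¹ᵁ W) =>
          tm M ((Scheme.Modules.pullback f).obj A) (f ⁻¹ᵁ W) m (σ f A W a)) := hcomp
    rw [this]
    exact hb₂
  exact (Function.Bijective.of_comp_iff _ hb₁).1 h3

/-- a morphism bijective on sections over all opens inside `V` restricts to an isomorphism -/
theorem isIso_restrict_of_bijOn {N N' : Y.Modules} (φ : N ⟶ N') (V : Y.Opens)
    (h : ∀ W : Y.Opens, W ≤ V → Function.Bijective (φ.app W)) :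
    IsIso ((Scheme.Modules.restrictFunctor V.ι).map φ) := by
  apply TwForm.isIso_of_app_bijective
  intro W₀
  exact h (V.ι ''ᵁ W₀) (V.ι_image_le W₀)

/-- `π_{M,A}` restricts to an isomorphism over an open where `A` is trivial -/
theorem isIso_restrict_piMap_of_triv (A : Y.Modules) (V : Y.Opens)
    (e : A.restrict V.ι ≅ Coh.structureModule (↑V : Scheme.{u})) :
    IsIso ((Scheme.Modules.restrictFunctor V.ι).map (piMap f M A)) := by
  apply isIso_restrict_of_bijOn
  intro W hW
  have hg := PullGen.isGen_of_iso V e
  have hW' : W ≤ V.ι ''ᵁ ⊤ := by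
    have : V.ι ''ᵁ ⊤ = V := by simp
    rw [this]
    exact hW
  exact bijective_piMap_app_of_isGen f M A W _ (hg.res hW')

end Groth.Agent.Lib.Helper5.ProjF2
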