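import Mathlib
import Groth.Agent.Lib.Helper5.ProjF2.PiGen
import Groth.Agent.Lib.Helper5.ProjF2.FinSupp
import Groth.Prelude.Def_DCoh4

/-!
# Additivity of the projection formula map in the second variable (helper5)
-/
set_option autoImplicit false
set_option linter.unusedSectionVars false
set_option linter.unusedVariables false
set_option linter.style.haveILetI false
universe u
open CategoryTheory CategoryTheory.Limits Opposite TopologicalSpace AlgebraicGeometry

namespace Groth.Agent.Lib.Helper5.ProjF2

open Groth.Agent.Lib.Helper5.ProjF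

variable {X Y : Scheme.{u}} (f : X ⟶ Y) (M : X.Modules)

/-- `π_{M,-}` as a natural transformation -/
noncomputable def piNat :
    DCoh.tensorBi.obj ((Scheme.Modules.pushforward f).obj M) ⟶
      Scheme.Modules.pullback f ⋙ DCoh.tensorBi.obj M ⋙ Scheme.Modules.pushforward f where
  app A := piMap f M A
  naturality A A' h := piMap_naturality_right f M h

/-- a natural transformation between additive functors is an isomorphism at a finite coproduct of
copies of `A₁` if it is at `A₁` -/
theorem isIso_app_coprod_of_additive {C D : Type*} [Category C] [Category D] [Preadditive C]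
    [Preadditive D] (G H : C ⥤ D) [G.Additive] [H.Additive] (α : G ⟶ H) {ι : Type*} [Finite ι]
    (A : ι → C) [HasCoproduct A] (h : ∀ i, IsIso (α.app (A i))) : IsIso (α.app (∐ A)) := by
  classical
  haveI := Fintype.ofFinite ι
  let c : Cofan A := Cofan.mk (∐ A) (Sigma.ι A)
  have hc : IsColimit c := coproductIsCoproduct A
  have hG := isColimitMapCoconeOfFinSupp c hc G Finset.univ (fun i hi => absurd (Finset.mem_univ i) hi)
  have hH := isColimitMapCoconeOfFinSupp c hc H Finset.univ (fun i hi => absurd (Finset.mem_univ i) hi)
  refine isIso_of_cocone_natIso hG hH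
    (Discrete.natIso (fun i => @asIso _ _ _ _ (α.app (A i.as)) (h i.as))) (α.app (∐ A)) ?_
  rintro ⟨i⟩
  exact α.naturality (Sigma.ι A i)

variable (V : Y.Opens)

theorem isIso_restrict_piMap_coprod {ι : Type} [Finite ι] (A : ι → Y.Modules)
    (h : ∀ i, IsIso ((Scheme.Modules.restrictFunctor V.ι).map (piMap f M (A i)))) :
    IsIso ((Scheme.Modules.restrictFunctor V.ι).map (piMap f M (∐ A))) :=
  isIso_app_coprod_of_additive _ _
    (Functor.whiskerRight (piNat f M) (Scheme.Modules.restrictFunctor V.ι)) A h

theorem isIso_restrict_piMap_of_iso {A A' : Y.Modules} (e : A ≅ A')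
    (h : IsIso ((Scheme.Modules.restrictFunctor V.ι).map (piMap f M A'))) :
    IsIso ((Scheme.Modules.restrictFunctor V.ι).map (piMap f M A)) := by
  let α := Functor.whiskerRight (piNat f M) (Scheme.Modules.restrictFunctor V.ι)
  have hn := α.naturality e.hom
  have h' : IsIso (α.app A') := h
  have : α.app A = (DCoh.tensorBi.obj ((Scheme.Modules.pushforward f).obj M) ⋙
      Scheme.Modules.restrictFunctor V.ι).map e.hom ≫ α.app A' ≫
      ((Scheme.Modules.pullback f ⋙ DCoh.tensorBi.obj M ⋙ Scheme.Modules.pushforward f) ⋙
        Scheme.Modules.restrictFunctor V.ι).map e.inv := by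
    rw [← Category.assoc, hn, Category.assoc, ← Functor.map_comp, Iso.hom_inv_id,
      CategoryTheory.Functor.map_id, Category.comp_id]
  show IsIso (α.app A)
  rw [this]
  infer_instance

end Groth.Agent.Lib.Helper5.ProjF2
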