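import Mathlib
import Groth.Agent.Lib.Helper5.ProjF2.PiAdd
import Groth.Agent.Lib.Helper5.ProjF2.EMapIso
import Groth.Agent.Lib.Helper5.ProjF2.Rho
import Groth.Agent.Lib.Helper5.ProjF2.RestrNat
import Groth.Agent.Lib.Helper5.ShriekProj.KFlat

/-!
# The projection formula map on complexes is an isomorphism over `V` for `F = j_! S`, `S` a
bounded complex of finite free modules on `V` (helper5)
-/
set_option autoImplicit false
set_option linter.unusedSectionVars false
set_option linter.unusedVariables false
set_option linter.style.haveILetI false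
universe u
open CategoryTheory CategoryTheory.Limits Opposite TopologicalSpace AlgebraicGeometry
  HomologicalComplex

namespace Groth.Agent.Lib.Helper5.ProjF2

open Groth.Agent.Lib.Helper5.ProjF Groth.Agent.Lib.Helper5.TotMap
  Groth.Agent.Lib.Helper5.ShriekProj

variable {X Y : Scheme.{u}} (f : X ⟶ Y) (I : CochainComplex X.Modules ℤ) (V : Y.Opens)

theorem isIso_restrict_piCx (F : CochainComplex Y.Modules ℤ) (s : Finset ℤ)
    (hF : ∀ q, q ∉ s → IsZero (F.X q))
    (hπ : ∀ p q, IsIso ((Scheme.Modules.restrictFunctor V.ι).map (piMap f (I.X p) (F.X q)))) :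
    IsIso ((resCxF V.ι).map (piCx f I F)) := by
  haveI : ∀ n, IsIso (((resCxF V.ι).map (piCx f I F)).f n) := by
    intro n
    exact isIso_map_eMap (TAf f) DCoh.tensorBi (Scheme.Modules.pushforward f) (𝟭 Y.Modules)
      (Scheme.Modules.pushforward f) (piMap f) I F (Scheme.Modules.restrictFunctor V.ι) n s hF hπ
  exact HomologicalComplex.Hom.isIso_of_components _

/-- the rank one module `j_! O_V` -/
noncomputable abbrev shO : Y.Modules := (Sh V).obj (Coh.structureModule (↑V : Scheme.{u}))

/-- `j_! O_V` is trivial over `V` -/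
noncomputable def shOTriv : (shO V).restrict V.ι ≅ Coh.structureModule (↑V : Scheme.{u}) :=
  (asIso ((adjSh V).unit.app (Coh.structureModule (↑V : Scheme.{u})))).symm

theorem isIso_restrict_piMap_shFree (M : X.Modules) (A : (↑V : Scheme.{u}).Modules) (r : ℕ)
    (e : A ≅ FlatMod.freeMod (↑V : Scheme.{u}) r) :
    IsIso ((Scheme.Modules.restrictFunctor V.ι).map (piMap f M ((Sh V).obj A))) := by
  haveI : PreservesColimitsOfSize.{0, 0} (Sh V) := (adjSh V).leftAdjoint_preservesColimits
  let e' : (Sh V).obj A ≅ ∐ (fun _ : Fin r => shO V) :=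
    (Sh V).mapIso e ≪≫
      PreservesCoproduct.iso (Sh V) (fun _ : Fin r => Coh.structureModule (↑V : Scheme.{u}))
  apply isIso_restrict_piMap_of_iso f M V e'
  apply isIso_restrict_piMap_coprod
  intro _
  exact isIso_restrict_piMap_of_triv f M (shO V) V (shOTriv V)

theorem isIso_restrict_piCx_extZero (S : CochainComplex (↑V : Scheme.{u}).Modules ℤ) (a b : ℤ)
    (hS : DCoh.VanishesOutside S a b)
    (hfree : ∀ q : ℤ, ∃ r : ℕ, Nonempty (S.X q ≅ FlatMod.freeMod (↑V : Scheme.{u}) r)) :
    IsIso ((resCxF V.ι).map (piCx f I ((ShCx V).obj S))) := by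
  apply isIso_restrict_piCx f I V _ (Finset.Icc a b)
  · intro q hq
    have : IsZero (S.X q) := hS q (by rw [Finset.mem_Icc] at hq; omega)
    exact Functor.map_isZero (Sh V) this
  · intro p q
    obtain ⟨r, ⟨e⟩⟩ := hfree q
    exact isIso_restrict_piMap_shFree f V (I.X p) (S.X q) r e

end Groth.Agent.Lib.Helper5.ProjF2
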