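import Mathlib
import Groth.Agent.Lib.Helper5.ProjF2.KITensor
import Groth.Agent.Lib.Helper5.ProjF2.PiCxIso
import Groth.Agent.Lib.Helper5.ProjF2.EpsStep
import Groth.Agent.Lib.Helper5.Perf.Shrink

/-!
# `(I ⊗ f^* j_! S)|_{f⁻¹ V}` is K-injective for `S` bounded finite free on `V` (helper5)
-/
set_option autoImplicit false
set_option linter.unusedSectionVars false
set_option linter.unusedVariables false
set_option linter.style.haveILetI false
universe u
open CategoryTheory CategoryTheory.Limits Opposite TopologicalSpace AlgebraicGeometry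
  HomologicalComplex
attribute [local instance] HasDerivedCategory.standard

namespace Groth.Agent.Lib.Helper5.ProjF2

open Groth.Agent.Lib.Helper5.ProjF Groth.Agent.Lib.Helper5.ShriekProj
  Groth.Agent.Lib.Helper5.RestrTen Groth.Agent.Lib.Helper5.PerfPull
  Groth.Agent.Lib.Helper5.RpushRes

/-- the symmetry of the tensor product of complexes -/
noncomputable def braidCx {Z : Scheme.{u}} (K L : CochainComplex Z.Modules ℤ) :
    (DCoh.tensorCx.obj K).obj L ≅ (DCoh.tensorCx.obj L).obj K :=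
  Groth.Agent.Lib.Helper5.KFlatG.braid (ModSite.tensorBi Z.sheaf)
    (Groth.Agent.Lib.Helper5.KFlatSiteQ.flipIso Z.sheaf) K L

variable {X Y : Scheme.{u}} (f : X ⟶ Y) (I : CochainComplex X.Modules ℤ) [I.IsKInjective]
  (V : Y.Opens)

/-- `(f^* j_! S)|_{f⁻¹V} ≅ (f|_V)^* S` -/
noncomputable def restrictPullShIso (S : CochainComplex (↑V : Scheme.{u}).Modules ℤ) :
    (resCxF (f ⁻¹ᵁ V).ι).obj ((pullCx f).obj ((ShCx V).obj S)) ≅ (pullCx (f ∣_ V)).obj S :=
  (NatIso.mapHomologicalComplex (restrictPullbackIso f (f ∣_ V) (morphismRestrict_ι f V))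
      (ComplexShape.up ℤ)).app ((ShCx V).obj S) ≪≫
    (pullCx (f ∣_ V)).mapIso
      ((NatIso.mapHomologicalComplex (asIso (adjSh V).unit) (ComplexShape.up ℤ)).app S).symm

theorem isKInjective_restrict_KF (S : CochainComplex (↑V : Scheme.{u}).Modules ℤ) (a b : ℤ)
    (hS : DCoh.VanishesOutside S a b)
    (hfree : ∀ q : ℤ, ∃ r : ℕ, Nonempty (S.X q ≅ FlatMod.freeMod (↑V : Scheme.{u}) r)) :
    ((resCxF (f ⁻¹ᵁ V).ι).obj ((KF f I).obj ((ShCx V).obj S))).IsKInjective := by
  haveI := isKInjective_restrict (f ⁻¹ᵁ V) I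
  let IU := (resCxF (f ⁻¹ᵁ V).ι).obj I
  let T := (pullCx (f ∣_ V)).obj S
  haveI : ((PhiI IU).obj T).IsKInjective := by
    apply isKInjective_PhiI_of_bounded_free IU T a b
    · intro q hq
      exact Functor.map_isZero (Scheme.Modules.pullback (f ∣_ V)) (hS q hq)
    · intro q
      obtain ⟨r, ⟨e⟩⟩ := hfree q
      exact ⟨r, ⟨(Scheme.Modules.pullback (f ∣_ V)).mapIso e ≪≫ pullbackFreeIso (f ∣_ V) r⟩⟩
  let e1 := restrictTotIso (f ⁻¹ᵁ V).ι I ((pullCx f).obj ((ShCx V).obj S))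
  let e2 := (DCoh.tensorCx.obj IU).mapIso (restrictPullShIso f V S)
  let e3 : (DCoh.tensorCx.obj IU).obj T ≅ (PhiI IU).obj T := braidCx IU T
  exact CochainComplex.isKInjective_of_iso (e1 ≪≫ e2 ≪≫ e3).symm

end Groth.Agent.Lib.Helper5.ProjF2
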