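import Mathlib
import Groth.Agent.Lib.Helper5.ProjF2.EpsStep
import Groth.Agent.Lib.Helper3.KInjD

/-!
# The unit `Q(f_* K) ⟶ Rf_* Q(K)` is an isomorphism over `V` when `K|_{f⁻¹V}` is K-injective
(helper5)
-/
set_option autoImplicit false
set_option linter.unusedSectionVars false
set_option linter.unusedVariables false
set_option linter.style.haveILetI false
universe u
open CategoryTheory CategoryTheory.Limits HomologicalComplex AlgebraicGeometry
attribute [local instance] HasDerivedCategory.standard

namespace Groth.Agent.Lib.Helper5.ProjF2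

open Groth.Agent.Lib.Helper5.RpushRes Groth.Agent.Lib.Helper5.LpullLib
  Groth.Agent.Helper3.KInjDer

variable {X Y : Scheme.{u}} (f : X ⟶ Y) [DCoh.HasRpush f]

/-- the unit is an isomorphism at a K-injective complex -/
theorem isIso_uCx_of_isKInjective (J : CochainComplex X.Modules ℤ) [J.IsKInjective] :
    IsIso (uCx f J) := by
  haveI := hasLpull f
  exact isIso_unit_app (DCoh.pushKh f) (rpushUnit f) J

/-- `f_*` preserves quasi-isomorphisms between K-injective complexes -/
theorem quasiIso_push_of_isKInjective {K J : CochainComplex X.Modules ℤ} [K.IsKInjective]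
    [J.IsKInjective] (i : K ⟶ J) (hi : QuasiIso i) : QuasiIso ((pushCx f).map i) := by
  haveI := isIso_uCx_of_isKInjective f K
  haveI := isIso_uCx_of_isKInjective f J
  haveI : IsIso (DerivedCategory.Q.map i) := (DerivedCategory.isIso_Q_map_iff_quasiIso _ i).2 hi
  have hn := uCx_naturality f i
  have : DerivedCategory.Q.map ((pushCx f).map i) =
      uCx f K ≫ (DCoh.Rpush f).map (DerivedCategory.Q.map i) ≫ inv (uCx f J) := by
    rw [← Category.assoc, ← hn, Category.assoc, IsIso.hom_inv_id, Category.comp_id]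
  have h2 : IsIso (DerivedCategory.Q.map ((pushCx f).map i)) := by
    rw [this]
    infer_instance
  exact (DerivedCategory.isIso_Q_map_iff_quasiIso _ _).1 h2

theorem isIso_restrictD_uCx (V : Y.Opens) (K : CochainComplex X.Modules ℤ)
    (hK : ((resCxF (f ⁻¹ᵁ V).ι).obj K).IsKInjective) :
    IsIso ((DCoh.restrictD V.ι).map (uCx f K)) := by
  haveI : DCoh.HasRpush (f ∣_ V) := hasRightDerivedFunctor (DCoh.pushKh (f ∣_ V))
  obtain ⟨J, i, hJ, hi, -, -⟩ := Groth.Agent.Helper3.KInjD.exists_kInjective_resolution K
  haveI := hJ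
  haveI := hK
  haveI := isKInjective_restrict (f ⁻¹ᵁ V) J
  -- the restriction of `i` to `f⁻¹ V`
  have hi' : QuasiIso ((resCxF (f ⁻¹ᵁ V).ι).map i) := by
    haveI := hi
    infer_instance
  have h1 : QuasiIso ((pushCx (f ∣_ V)).map ((resCxF (f ⁻¹ᵁ V).ι).map i)) :=
    quasiIso_push_of_isKInjective (f ∣_ V) _ hi'
  -- transport along `pushRestrictIso`
  let τ := NatIso.mapHomologicalComplex (pushRestrictIso f V) (ComplexShape.up ℤ)
  have h2' : QuasiIso (((Scheme.Modules.pushforward f ⋙
      Scheme.Modules.restrictFunctor V.ι).mapHomologicalComplex (ComplexShape.up ℤ)).map i) := by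
    have hnat := τ.hom.naturality i
    have e : ((Scheme.Modules.pushforward f ⋙
        Scheme.Modules.restrictFunctor V.ι).mapHomologicalComplex (ComplexShape.up ℤ)).map i =
        τ.hom.app K ≫ ((Scheme.Modules.restrictFunctor (f ⁻¹ᵁ V).ι ⋙
          Scheme.Modules.pushforward (f ∣_ V)).mapHomologicalComplex (ComplexShape.up ℤ)).map i ≫
          τ.inv.app J := by
      rw [← Category.assoc, ← hnat, Category.assoc, Iso.hom_inv_id_app, Category.comp_id]
    rw [e]
    haveI : QuasiIso (((Scheme.Modules.restrictFunctor (f ⁻¹ᵁ V).ι ⋙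
          Scheme.Modules.pushforward (f ∣_ V)).mapHomologicalComplex (ComplexShape.up ℤ)).map i) :=
      h1
    infer_instance
  have h2 : QuasiIso ((resCxF V.ι).map ((pushCx f).map i)) := h2'
  have h3 : IsIso ((DCoh.restrictD V.ι).map (DerivedCategory.Q.map ((pushCx f).map i))) := by
    rw [Groth.Agent.Lib.Helper5.LocRepr.map_Q_map (Scheme.Modules.restrictFunctor V.ι)]
    haveI : IsIso (DerivedCategory.Q.map ((resCxF V.ι).map ((pushCx f).map i))) :=
      (DerivedCategory.isIso_Q_map_iff_quasiIso _ _).2 h2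
    infer_instance
  -- naturality of the unit
  haveI := isIso_uCx_of_isKInjective f J
  haveI : IsIso (DerivedCategory.Q.map i) := (DerivedCategory.isIso_Q_map_iff_quasiIso _ i).2 hi
  have hn := congrArg (fun φ => (DCoh.restrictD V.ι).map φ) (uCx_naturality f i)
  simp only [Functor.map_comp] at hn
  haveI := h3
  have : (DCoh.restrictD V.ι).map (uCx f K) =
      ((DCoh.restrictD V.ι).map (DerivedCategory.Q.map ((pushCx f).map i)) ≫
        (DCoh.restrictD V.ι).map (uCx f J)) ≫
        inv ((DCoh.restrictD V.ι).map ((DCoh.Rpush f).map (DerivedCategory.Q.map i))) := by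
    rw [hn, Category.assoc, IsIso.hom_inv_id, Category.comp_id]
  rw [this]
  infer_instance

end Groth.Agent.Lib.Helper5.ProjF2
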