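import Mathlib
import Groth.Agent.Lib.Helper5.ProjF2.UnitRestr
import Groth.Agent.Lib.Helper5.ProjF2.KIRestr
import Groth.Agent.Lib.Helper5.ProjF2.Transfer

/-!
# `ρ_F` is an isomorphism over `V` for `F = j_! S`, `S` bounded finite free on `V` (helper5)
-/
set_option autoImplicit false
set_option linter.unusedSectionVars false
set_option linter.unusedVariables false
set_option linter.style.haveILetI false
universe u
open CategoryTheory CategoryTheory.Limits HomologicalComplex AlgebraicGeometry
attribute [local instance] HasDerivedCategory.standard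

namespace Groth.Agent.Lib.Helper5.ProjF2

open Groth.Agent.Lib.Helper5.ShriekProj

variable {X Y : Scheme.{u}} (f : X ⟶ Y) [DCoh.HasRpush f] (I : CochainComplex X.Modules ℤ)
  [I.IsKInjective] (V : Y.Opens)

theorem rhoIsoOn_extZero_free (S : CochainComplex (↑V : Scheme.{u}).Modules ℤ) (a b : ℤ)
    (hS : DCoh.VanishesOutside S a b)
    (hfree : ∀ q : ℤ, ∃ r : ℕ, Nonempty (S.X q ≅ FlatMod.freeMod (↑V : Scheme.{u}) r)) :
    RhoIsoOn f I V ((ShCx V).obj S) := by
  unfold RhoIsoOn rho
  rw [Functor.map_comp]
  haveI h1 : IsIso ((DCoh.restrictD V.ι).map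
      (DerivedCategory.Q.map (piCx f I ((ShCx V).obj S)))) :=
    isIso_restrictD_Q_map V.ι _ (isIso_restrict_piCx_extZero f I V S a b hS hfree)
  haveI h2 : IsIso ((DCoh.restrictD V.ι).map (uCx f ((KF f I).obj ((ShCx V).obj S)))) :=
    isIso_restrictD_uCx f V _ (isKInjective_restrict_KF f I V S a b hS hfree)
  infer_instance

end Groth.Agent.Lib.Helper5.ProjF2
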