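import Mathlib
import Groth.Agent.Lib.Helper5.ProjF2.RhoShFree
import Groth.Agent.Lib.Helper5.LTen.PerfTensor
import Groth.Agent.Lib.Helper5.Perf.PerfLocFree

/-!
# `ρ_P` is an isomorphism over an open `V` on which `P` is represented by a bounded complex of
finite free modules (helper5)
-/
set_option autoImplicit false
set_option linter.unusedSectionVars false
set_option linter.unusedVariables false
set_option linter.style.haveILetI false
universe u
open CategoryTheory CategoryTheory.Limits HomologicalComplex AlgebraicGeometry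
attribute [local instance] HasDerivedCategory.standard

namespace Groth.Agent.Lib.Helper5.ProjF2

open Groth.Agent.Lib.Helper5.ShriekProj Groth.Agent.Lib.Helper5.KFlatSiteQ

attribute [local instance] Groth.Agent.Lib.Helper5.BvdB.preservesFiniteLimits_extZero

/-- an isomorphism in the derived category between two complexes is represented by a roof of
quasi-isomorphisms with K-flat apex -/
theorem exists_kflat_roof {Z : Scheme.{u}} (A B : CochainComplex Z.Modules ℤ)
    (e : DerivedCategory.Q.obj A ≅ DerivedCategory.Q.obj B) :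
    ∃ (P' : CochainComplex Z.Modules ℤ) (s : P' ⟶ A) (g : P' ⟶ B),
      DCoh.IsKFlat P' ∧ QuasiIso s ∧ QuasiIso g := by
  obtain ⟨X', s₀, hs₀, g₀, hfac⟩ := DerivedCategory.right_fac e.hom
  haveI := hs₀
  have hg₀ : IsIso (DerivedCategory.Q.map g₀) := by
    have : DerivedCategory.Q.map g₀ = DerivedCategory.Q.map s₀ ≫ e.hom := by
      rw [hfac, IsIso.hom_inv_id_assoc]
    rw [this]
    infer_instance
  haveI q1 : QuasiIso s₀ := (DerivedCategory.isIso_Q_map_iff_quasiIso _ s₀).1 hs₀
  haveI q2 : QuasiIso g₀ := (DerivedCategory.isIso_Q_map_iff_quasiIso _ g₀).1 hg₀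
  obtain ⟨P₀, r₀, h1, _, h3, _⟩ := exists_isKFlat_resolution (O := Z.sheaf) X'
  let P' : CochainComplex Z.Modules ℤ := P₀
  let r : P' ⟶ X' := r₀
  haveI q3 : QuasiIso r := h3
  have q4 : QuasiIso (r ≫ s₀) := inferInstance
  have q5 : QuasiIso (r ≫ g₀) := inferInstance
  exact ⟨P', r ≫ s₀, r ≫ g₀, h1, q4, q5⟩

variable {X Y : Scheme.{u}} (f : X ⟶ Y) [DCoh.HasRpush f] (I : CochainComplex X.Modules ℤ)
  [I.IsKInjective] (V : Y.Opens)

/-- the counit `j_! j^* P ⟶ P` on complexes -/
noncomputable def epsCx (P : CochainComplex Y.Modules ℤ) :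
    (ShCx V).obj ((DCoh.restrictCx V).obj P) ⟶ P :=
  (NatTrans.mapHomologicalComplex (adjSh V).counit (ComplexShape.up ℤ)).app P

theorem isIso_restrict_counit (A : Y.Modules) :
    IsIso ((Scheme.Modules.restrictFunctor V.ι).map ((adjSh V).counit.app A)) := by
  have h := (adjSh V).right_triangle_components A
  haveI : IsIso ((adjSh V).unit.app ((Rs V).obj A)) := inferInstance
  exact IsIso.of_isIso_fac_left h

theorem rhoIsoOn_of_local_free (P : CochainComplex Y.Modules ℤ) (hP : DCoh.IsKFlat P)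
    (S : CochainComplex (↑V : Scheme.{u}).Modules ℤ) (a b : ℤ)
    (hS : DCoh.VanishesOutside S a b)
    (hfree : ∀ q : ℤ, ∃ r : ℕ, Nonempty (S.X q ≅ FlatMod.freeMod (↑V : Scheme.{u}) r))
    (e : DerivedCategory.Q.obj ((DCoh.restrictCx V).obj P) ≅ DerivedCategory.Q.obj S) :
    RhoIsoOn f I V P := by
  have hPV : DCoh.IsKFlat ((DCoh.restrictCx V).obj P) :=
    Groth.Agent.Lib.Helper5.PerfTensor.isKFlat_restrict V.ι P hP
  have hSK : DCoh.IsKFlat S :=
    Groth.Agent.Lib.Helper5.LTenDer.isKFlat_of_isStrictlyPerfect S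
      ⟨⟨a, b, hS⟩, fun i => by
        obtain ⟨r, ⟨e'⟩⟩ := hfree i
        exact Groth.Agent.Lib.Helper5.Shrink.isFinLocFree_of_iso_free _ r e'⟩
  obtain ⟨P', s, g, hP', hs, hg⟩ := exists_kflat_roof _ _ e
  have h3 : RhoIsoOn f I V ((ShCx V).obj S) := rhoIsoOn_extZero_free f I V S a b hS hfree
  have qs : QuasiIso ((ShCx V).map s) := by
    haveI := hs
    infer_instance
  have qg : QuasiIso ((ShCx V).map g) := by
    haveI := hg
    infer_instance
  have h2 : RhoIsoOn f I V ((ShCx V).obj P') :=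
    (rhoIsoOn_iff_of_quasiIso f I V ((ShCx V).map g) (isKFlat_extZero V P' hP')
      (isKFlat_extZero V S hSK) qg).2 h3
  have h1 : RhoIsoOn f I V ((ShCx V).obj ((DCoh.restrictCx V).obj P)) :=
    (rhoIsoOn_iff_of_quasiIso f I V ((ShCx V).map s) (isKFlat_extZero V P' hP')
      (isKFlat_extZero V _ hPV) qs).1 h2
  exact (rhoIsoOn_iff_of_restrict_iso f I V (epsCx V P)
    (fun n => isIso_restrict_counit V (P.X n))).1 h1

end Groth.Agent.Lib.Helper5.ProjF2
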