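import Mathlib
import Groth.Agent.Lib.Helper5.ProjF2.Roof
import Groth.Agent.Lib.Helper5.Perf.RpushOpen
import Groth.Agent.Lib.Helper5.StalkTen.KFlatPull

/-!
# The projection formula `Rf_* E ⊗^L P ≅ Rf_*(E ⊗^L f^* P)` for a K-flat perfect complex `P`
(helper5)
-/
set_option autoImplicit false
set_option linter.unusedSectionVars false
set_option linter.unusedVariables false
set_option linter.style.haveILetI false
universe u
open CategoryTheory CategoryTheory.Limits HomologicalComplex AlgebraicGeometry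
attribute [local instance] HasDerivedCategory.standard

namespace Groth.Agent.Lib.Helper5.ProjF2

variable {X Y : Scheme.{u}} (f : X ⟶ Y) [DCoh.HasRpush f]

/-- `ρ_P` is an isomorphism for a K-flat perfect complex `P` and a K-injective complex `I` -/
theorem isIso_rho_of_isPerfect (I : CochainComplex X.Modules ℤ) [I.IsKInjective]
    (P : CochainComplex Y.Modules ℤ) (hP : DCoh.IsKFlat P)
    (hperf : DCoh.IsPerfect (DerivedCategory.Q.obj P)) : IsIso (rho f I P) := by
  apply isIso_of_locally_D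
  intro y
  obtain ⟨V, hyV, hV⟩ :=
    (Groth.Agent.Lib.Helper5.Shrink.perfect_iff_locally_free (DerivedCategory.Q.obj P)).1 hperf y
  obtain ⟨S, a, b, hS, hfree, ⟨e⟩⟩ := hV P ⟨Iso.refl _⟩
  exact ⟨V, hyV, rhoIsoOn_of_local_free f I V P hP S a b hS hfree e⟩

theorem nonempty_projFormula_perfect (P : CochainComplex Y.Modules ℤ) (hP : DCoh.IsKFlat P)
    (hperf : DCoh.IsPerfect (DerivedCategory.Q.obj P)) [DCoh.HasLTensorCx P]
    [DCoh.HasLTensorCx (((Scheme.Modules.pullback f).mapHomologicalComplex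
      (ComplexShape.up ℤ)).obj P)] (E : DCoh.D X) :
    Nonempty ((DCoh.LTensorCx P).obj ((DCoh.Rpush f).obj E) ≅
      (DCoh.Rpush f).obj ((DCoh.LTensorCx (((Scheme.Modules.pullback f).mapHomologicalComplex
        (ComplexShape.up ℤ)).obj P)).obj E)) := by
  obtain ⟨I, hI, ⟨eI⟩⟩ := Groth.Agent.Lib.Helper5.RpushOpen.exists_kInjective_repr E
  haveI := hI
  let fP := ((Scheme.Modules.pullback f).mapHomologicalComplex (ComplexShape.up ℤ)).obj P
  have hfP : DCoh.IsKFlat fP := Groth.Agent.Lib.Helper5.KFlatPull.isKFlat_pullback f P hP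
  haveI := isIso_uCx_of_isKInjective f I
  haveI := isIso_rho_of_isPerfect f I P hP hperf
  let l1 : (DCoh.LTensorCx P).obj ((DCoh.Rpush f).obj E) ≅
      DerivedCategory.Q.obj ((LF f I).obj P) :=
    (DCoh.LTensorCx P).mapIso ((DCoh.Rpush f).mapIso eI ≪≫ (asIso (uCx f I)).symm) ≪≫
      Groth.Agent.Lib.Helper5.LTenDer.ltensorObjIso P hP ((pushCx f).obj I)
  let r1 : (DCoh.LTensorCx fP).obj E ≅ DerivedCategory.Q.obj ((KF f I).obj P) :=
    (DCoh.LTensorCx fP).mapIso eI ≪≫ Groth.Agent.Lib.Helper5.LTenDer.ltensorObjIso fP hfP I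
  exact ⟨l1 ≪≫ asIso (rho f I P) ≪≫ (DCoh.Rpush f).mapIso r1.symm⟩

end Groth.Agent.Lib.Helper5.ProjF2
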